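import Cfsg.Agent.Leech.Basic

/-! Definitions for the rational representations of degree 23. -/

set_option autoImplicit false

namespace Cfsg.Agent.F23

/-- The rational space of dimension 23. -/
abbrev V : Type := Fin 23 → ℚ

/-- A faithful irreducible rational representation of degree 23. -/
structure Hyp {G : Type*} [Group G] (σ : G →* Module.End ℚ V) : Prop where
  inj : Function.Injective σ
  irr : ∀ W : Submodule ℚ V, (∀ g : G, ∀ w ∈ W, σ g w ∈ W) → W = ⊥ ∨ W = ⊤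

/-- An invariant positive definite symmetric form. -/
structure Form {G : Type*} [Group G] (σ : G →* Module.End ℚ V) (B : V →ₗ[ℚ] V →ₗ[ℚ] ℚ) : Prop where
  symm : ∀ x y, B x y = B y x
  pos : ∀ x, x ≠ 0 → 0 < B x x
  inv : ∀ g x y, B (σ g x) (σ g y) = B x y

/-- An invariant integral lattice. -/
structure Lat {G : Type*} [Group G] (σ : G →* Module.End ℚ V) (B : V →ₗ[ℚ] V →ₗ[ℚ] ℚ)
    (L : Submodule ℤ V) : Prop where
  fg : L.FG
  span : Submodule.span ℚ (L : Set V) = ⊤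
  inv : ∀ g, ∀ x ∈ L, σ g x ∈ L
  int : ∀ x ∈ L, ∀ y ∈ L, ∃ n : ℤ, B x y = n

/-- The dual lattice. -/
def dual (B : V →ₗ[ℚ] V →ₗ[ℚ] ℚ) (L : Submodule ℤ V) : Submodule ℤ V where
  carrier := {z | ∀ x ∈ L, ∃ n : ℤ, B z x = n}
  zero_mem' := fun x _ => ⟨0, by simp⟩
  add_mem' := by
    intro a b ha hb x hx
    obtain ⟨m, hm⟩ := ha x hx
    obtain ⟨n, hn⟩ := hb x hx
    exact ⟨m + n, by simp [hm, hn]⟩
  smul_mem' := by
    intro c a ha x hx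
    obtain ⟨m, hm⟩ := ha x hx
    exact ⟨c * m, by rw [map_zsmul, LinearMap.smul_apply, hm, zsmul_eq_mul, Int.cast_mul]⟩

theorem mem_dual {B : V →ₗ[ℚ] V →ₗ[ℚ] ℚ} {L : Submodule ℤ V} {z : V} :
    z ∈ dual B L ↔ ∀ x ∈ L, ∃ n : ℤ, B z x = n := Iff.rfl

/-- The part of the dual lattice that `ℓ` multiplies into the lattice. -/
def part (B : V →ₗ[ℚ] V →ₗ[ℚ] ℚ) (L : Submodule ℤ V) (ℓ : ℕ) : Submodule ℤ V :=
  dual B L ⊓ L.comap (LinearMap.lsmul ℤ V (ℓ : ℤ))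

theorem mem_part {B : V →ₗ[ℚ] V →ₗ[ℚ] ℚ} {L : Submodule ℤ V} {ℓ : ℕ} {z : V} :
    z ∈ part B L ℓ ↔ z ∈ dual B L ∧ (ℓ : ℤ) • z ∈ L := Iff.rfl

/-- An invariant lattice of least discriminant has these properties. -/
structure MinLat {G : Type*} [Group G] (σ : G →* Module.End ℚ V) (B : V →ₗ[ℚ] V →ₗ[ℚ] ℚ)
    (L : Submodule ℤ V) (n : ℕ) : Prop where
  form : Form σ B
  lat : Lat σ B L
  sq : Squarefree n
  kill : ∀ z ∈ dual B L, (n : ℤ) • z ∈ L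
  need : ∀ ℓ : ℕ, ℓ.Prime → ℓ ∣ n → ∃ z ∈ part B L ℓ, z ∉ L
  idx : ∀ ℓ : ℕ, ℓ.Prime → L.toAddSubgroup.relIndex (part B L ℓ).toAddSubgroup ≠ 0 ∧
    L.toAddSubgroup.relIndex (part B L ℓ).toAddSubgroup ^ 2 ≤ ℓ ^ 23
  prim : ∀ ℓ : ℕ, ℓ.Prime → ∃ x ∈ L, ∃ y ∈ L, ¬ ∃ m : ℤ, B x y = ℓ * m

/-- The lattice with an element `g` of order 23 and its primitive fixed vector `u`. -/
structure Setup {G : Type*} [Group G] (σ : G →* Module.End ℚ V) (B : V →ₗ[ℚ] V →ₗ[ℚ] ℚ)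
    (L : Submodule ℤ V) (g : G) (u : V) (d : ℕ) : Prop where
  hyp : Hyp σ
  form : Form σ B
  lat : Lat σ B L
  uL : u ∈ L
  gu : σ g u = u
  sq : Squarefree d
  nd : ¬ 23 ∣ d
  uu : B u u = 23 * d
  dvd : ∀ x ∈ L, ∃ k : ℤ, B x u = d * k
  one : ∃ x ∈ L, B x u = d
  dual : ∀ z ∈ dual B L, ∃ j : ℤ, z - ((j : ℚ) / d) • u ∈ L
  sum0 : ∀ w, B w u = 0 → ∑ j ∈ Finset.range 23, σ (g ^ j) w = 0

/-- An even unimodular positive definite form. -/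
structure EU {Λ : Type*} [AddCommGroup Λ] (b : Λ →ₗ[ℤ] Λ →ₗ[ℤ] ℤ) : Prop where
  symm : ∀ x y, b x y = b y x
  pos : ∀ x, x ≠ 0 → 0 < b x x
  even : ∀ x, Even (b x x)
  unim : ∀ f : Λ →ₗ[ℤ] ℤ, ∃ x, ∀ y, b x y = f y

/-- The dual `P` of an even lattice `ker χ` of discriminant 23, with 23 times its form. -/
structure D23 {P : Type*} [AddCommGroup P] (β : P →ₗ[ℤ] P →ₗ[ℤ] ℤ) (χ : P →+ ZMod 23) (c : ZMod 23) : Prop where
  symm : ∀ x y, β x y = β y x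
  pos : ∀ x, x ≠ 0 → 0 < β x x
  even : ∀ x, Even (β x x)
  cne : c ≠ 0
  surj : ∃ y, χ y = 1
  cong : ∀ x y, ((β x y : ℤ) : ZMod 23) = c * χ x * χ y
  unim : ∀ f : P →ₗ[ℤ] ℤ, (∀ x, χ x = 0 → (23 : ℤ) ∣ f x) → ∃ y, ∀ x, β y x = f x

/-- The same with a fixed-point-free isometry of order 23. -/
structure PG {P : Type*} [AddCommGroup P] (β : P →ₗ[ℤ] P →ₗ[ℤ] ℤ) (χ : P →+ ZMod 23) (c : ZMod 23)
    (γ : Module.End ℤ P) : Prop extends D23 β χ c where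
  isom : ∀ x y, β (γ x) (γ y) = β x y
  chi : ∀ x, χ (γ x) = χ x
  sum0 : ∀ y, ∑ j ∈ Finset.range 23, (γ ^ j) y = 0

/-- The glued lattice. -/
def gl {P P' : Type*} [AddCommGroup P] [AddCommGroup P'] (χ : P →+ ZMod 23) (χ' : P' →+ ZMod 23) :
    Submodule ℤ (P × P') where
  carrier := {p | χ p.1 = χ' p.2}
  zero_mem' := by simp
  add_mem' := by
    intro a b ha hb
    simp only [Set.mem_ofPred_eq, Prod.fst_add, Prod.snd_add, map_add] at ha hb ⊢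
    rw [ha, hb]
  smul_mem' := by
    intro c a ha
    simp only [Set.mem_ofPred_eq, Prod.smul_fst, Prod.smul_snd, map_zsmul] at ha ⊢
    rw [ha]

theorem mem_gl {P P' : Type*} [AddCommGroup P] [AddCommGroup P'] {χ : P →+ ZMod 23} {χ' : P' →+ ZMod 23}
    {p : P × P'} : p ∈ gl χ χ' ↔ χ p.1 = χ' p.2 := Iff.rfl

/-- 23 times the form on the dual of the binary lattice with Gram matrix `[[4,1],[1,6]]`. -/
def βN : (ℤ × ℤ) →ₗ[ℤ] (ℤ × ℤ) →ₗ[ℤ] ℤ :=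
  LinearMap.mk₂ ℤ (fun p q => 6 * p.1 * q.1 - p.1 * q.2 - p.2 * q.1 + 4 * p.2 * q.2)
    (fun _ _ _ => by simp only [Prod.fst_add, Prod.snd_add]; ring)
    (fun _ _ _ => by simp only [Prod.smul_fst, Prod.smul_snd, smul_eq_mul]; ring)
    (fun _ _ _ => by simp only [Prod.fst_add, Prod.snd_add]; ring)
    (fun _ _ _ => by simp only [Prod.smul_fst, Prod.smul_snd, smul_eq_mul]; ring)

theorem βN_apply (p q : ℤ × ℤ) : βN p q = 6 * p.1 * q.1 - p.1 * q.2 - p.2 * q.1 + 4 * p.2 * q.2 := rfl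

/-- The class map of that dual; its kernel is spanned by `a = (4,1)` and `b = (1,6)`. -/
def χN : (ℤ × ℤ) →+ ZMod 23 where
  toFun p := ((p.1 - 4 * p.2 : ℤ) : ZMod 23)
  map_zero' := by simp
  map_add' p q := by simp only [Prod.fst_add, Prod.snd_add]; push_cast; ring

theorem χN_apply (p : ℤ × ℤ) : χN p = ((p.1 - 4 * p.2 : ℤ) : ZMod 23) := rfl

/-- The vector (−3, 1²³). -/
def vecA : GolayPt → ℤ := fun p => if p = none then -3 else 1

/-- The vector (5, 1²³). -/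
def vecB : GolayPt → ℤ := fun p => if p = none then 5 else 1

end Cfsg.Agent.F23
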