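import Cfsg.Agent.F23.Defs

/-! Integrality of the rank-24 lattice and an automorphism moving (−3, 1²³) to (4, 4, 0²²). -/

set_option autoImplicit false
namespace Cfsg.Agent.F23

open Cfsg.Agent.Leech Cfsg.Agent.M11

theorem tau_dot_add (x y z : GolayPt → ℤ) : dotInt (x + y) z = dotInt x z + dotInt y z := by
  simp only [dotInt, Pi.add_apply, add_mul, Finset.sum_add_distrib]

theorem tau_dot_neg (x z : GolayPt → ℤ) : dotInt (-x) z = -dotInt x z := by
  simp only [dotInt, Pi.neg_apply, neg_mul, Finset.sum_neg_distrib]

theorem tau_dot_comm (x z : GolayPt → ℤ) : dotInt x z = dotInt z x := by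
  simp only [dotInt, mul_comm]

/-- The vectors whose product with `y` is divisible by 8. -/
def tauSub (y : GolayPt → ℤ) : AddSubgroup (GolayPt → ℤ) where
  carrier := {x | 8 ∣ dotInt x y}
  zero_mem' := by simp [dotInt]
  add_mem' := fun {a b} ha hb => by
    show 8 ∣ dotInt (a + b) y
    rw [tau_dot_add]; exact dvd_add ha hb
  neg_mem' := fun {a} ha => by
    show 8 ∣ dotInt (-a) y
    rw [tau_dot_neg]; exact (dvd_neg).mpr ha

theorem tau_gen : ∀ i < 37, ∀ j < 37, dotInt (gen i) (gen j) % 8 = 0 := by decide +kernel

theorem leech_int {x y : GolayPt → ℤ} (hx : x ∈ leechLattice) (hy : y ∈ leechLattice) : 8 ∣ dotInt x y := by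
  refine le_of_gen (S := tauSub y) (fun i hi => ?_) hx
  show 8 ∣ dotInt (gen i) y
  rw [tau_dot_comm]
  exact le_of_gen (S := tauSub (gen i)) (fun j hj => Int.dvd_of_emod_eq_zero (tau_gen j hj i hi)) hy

/-- Eight times the matrix of the automorphism. -/
def tauM : Matrix GolayPt GolayPt ℤ := fun p q =>
  (Nat.land (Nat.shiftRight 0x231484210a52948421484294842108611484210a52948421484294842108420c8421065194842148628c842088420cc4210a32948420c4428c842108420c86110a31948421484194842108420c82310a31948421484194842108421484218a51948220c8418c842108420c84210652948430c84194842104421484210a328c8420c86194842088420c84210a518cc420c84294442108421484210a318c843148428c84210452906529484210a529063210a318ca421484208a51948620c8418c8421083190a52948421065190a32106318c6421484210631948420c84294861108420c44210a32948420cc428c8421085290a528c8421063290a521063194a42148421063294c42148418c442108420c84210a528c842148418c8611085290652948421065190652106529465290a31948421065290a32106528ca5290a319484210a5190a5210a319465290a528c84210a3190a3210a528c63190a529484210a5290a5210a5294a (Nat.mul 5 (Nat.add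 (Nat.mul 24 (idx p)) (idx q)))) 31 : ℕ) - 8

theorem tauM_good : Good tauM := by decide +kernel

theorem tauM_good' : Good tauM.transpose := by decide +kernel

theorem tauM_orth : ∀ p q, ∑ r, tauM r p * tauM r q = if p = q then 64 else 0 := by decide +kernel

theorem tauM_act : ∀ p, app tauM vecA p = Cfsg.Spor.vecU p := by decide +kernel

theorem exists_tau : ∃ τ ∈ Co0, ∀ x : leechLattice, (x : GolayPt → ℤ) = vecA → τ x = Cfsg.Spor.leechU := by
  obtain ⟨τ, h1, h2⟩ := exists_Co0 tauM_good tauM_good' tauM_orth
  refine ⟨τ, h1, fun x hx => Subtype.ext ?_⟩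
  rw [h2, hx]
  exact funext tauM_act

theorem vecA_mem : vecA ∈ leechLattice := inL.mem (by decide +kernel)

theorem vecB_mem : vecB ∈ leechLattice := inL.mem (by decide +kernel)

end Cfsg.Agent.F23
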